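import Groth.Agent.RegLoc6.RegEtale
import Mathlib

/-!
# Regular rings: smooth ascent, descent of finite field extensions to subfields
-/

universe u

namespace Groth.Agent.GeomReg

open TensorProduct

theorem isRegularLocalRing_of_away {B : Type u} [CommRing B] (f : B) (C : Type u) [CommRing C]
    [Algebra B C] [IsLocalization.Away f C] [IsRegularRing C] (q : Ideal B) [q.IsPrime]
    (hf : f ∉ q) : IsRegularLocalRing (Localization.AtPrime q) := by
  have hdisj : Disjoint (Submonoid.powers f : Set B) (q : Set B) :=
    (Ideal.disjoint_powers_iff_notMem_of_isPrime _).mpr hf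
  have : (q.map (algebraMap B C)).IsPrime :=
    IsLocalization.isPrime_of_isPrime_disjoint (.powers f) _ _ ‹_› hdisj
  have hr := (Groth.Agent.RegLoc6.regular_iff_localization (Submonoid.powers f) C
    (q.map (algebraMap B C))).mp (IsRegularRing.isRegularLocalRing_localization _)
  have key : ∀ (p : Ideal B) [p.IsPrime], p = q →
      IsRegularLocalRing (Localization.AtPrime p) → IsRegularLocalRing (Localization.AtPrime q) := by
    intro p _ h hp; subst h; exact hp
  exact key _ (IsLocalization.under_map_of_isPrime_disjoint (Submonoid.powers f) _ ‹_› hdisj) hr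

/-- A localisation of a regular ring is regular. -/
theorem isRegularRing_of_isLocalization {B : Type u} [CommRing B] [IsRegularRing B]
    (M : Submonoid B) (C : Type u) [CommRing C] [Algebra B C] [IsLocalization M C] :
    IsRegularRing C := by
  have : IsNoetherianRing C := IsLocalization.isNoetherianRing M C inferInstance
  rw [isRegularRing_iff]
  intro P _
  exact (Groth.Agent.RegLoc6.regular_iff_localization M C P).mpr
    (IsRegularRing.isRegularLocalRing_localization _)

/-- Regularity ascends along smooth maps. -/
theorem isRegularRing_of_smooth (A B : Type u) [CommRing A] [CommRing B] [Algebra A B]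
    [IsRegularRing A] [Algebra.Smooth A B] : IsRegularRing B := by
  have : IsNoetherianRing B := Algebra.FiniteType.isNoetherianRing A B
  rw [isRegularRing_iff]
  intro q _
  have : Algebra.IsSmoothAt A q := Set.eq_univ_iff_forall.mp
    (Algebra.smoothLocus_eq_univ_iff.mpr (inferInstance : Algebra.FormallySmooth A B)) ⟨q, ‹_›⟩
  obtain ⟨f, hf, n, _, _, hse⟩ :=
    Algebra.IsSmoothAt.exists_isStandardEtale_mvPolynomial (R := A) (p := q)
  have : IsNoetherianRing (Localization.Away f) :=
    IsLocalization.isNoetherianRing (Submonoid.powers f) _ inferInstance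
  have : IsRegularRing (Localization.Away f) := by
    rw [isRegularRing_iff]
    intro Q _
    exact Groth.Agent.RegLoc6.regular_of_etale (A := MvPolynomial (Fin n) A) Q
      (IsRegularRing.isRegularLocalRing_localization _)
  exact isRegularLocalRing_of_away f (Localization.Away f) q hf

/-- A surjection with kernel killed by an element mapping to `1` is a localisation. -/
theorem isLocalization_away_of_surjective {T T' : Type u} [CommRing T] [CommRing T'] [Algebra T T']
    (hs : Function.Surjective (algebraMap T T')) (e : T) (he : algebraMap T T' e = 1)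
    (hker : ∀ x, algebraMap T T' x = 0 → e * x = 0) : IsLocalization.Away e T' := by
  constructor
  constructor
  · rintro ⟨_, n, rfl⟩
    simp [he]
  · intro z
    obtain ⟨x, rfl⟩ := hs z
    exact ⟨(x, 1), by simp⟩
  · intro x y hxy
    refine ⟨⟨e, Submonoid.mem_powers e⟩, ?_⟩
    have := hker (x - y) (by rw [map_sub, hxy, sub_self])
    rw [mul_sub, sub_eq_zero] at this
    exact this

theorem isNoetherianRing_tensor (k K A : Type u) [Field k] [Field K] [Algebra k K]
    [Module.Finite k K] [CommRing A] [Algebra k A] [IsNoetherianRing A] :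
    IsNoetherianRing (A ⊗[k] K) :=
  IsNoetherianRing.of_finite A (A ⊗[k] K)

/-- A finite field extension of a field which is a directed union of subfields comes from one of
the subfields. -/
theorem exists_model (k : Type u) [Field k] {ι : Type u} (K : ι → Type u) [∀ i, Field (K i)]
    [∀ i, Algebra (K i) k]
    (hdir : ∀ i j, ∃ l, Set.range (algebraMap (K i) k) ⊆ Set.range (algebraMap (K l) k) ∧
      Set.range (algebraMap (K j) k) ⊆ Set.range (algebraMap (K l) k))
    (hcov : ∀ x : k, ∃ i, x ∈ Set.range (algebraMap (K i) k))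
    (L : Type u) [Field L] [Algebra k L] [Module.Finite k L] [∀ i, Algebra (K i) L]
    [∀ i, IsScalarTower (K i) k L] :
    ∃ i, ∃ (L₀ : Type u) (_ : Field L₀) (_ : Algebra (K i) L₀) (_ : Module.Finite (K i) L₀)
      (_ : Algebra L₀ L) (_ : IsScalarTower (K i) L₀ L),
      Nonempty (k ⊗[K i] L₀ ≃ₐ[k] L) := by
  classical
  have hall : ∀ s : Finset k, ∃ i, ∀ x ∈ s, x ∈ Set.range (algebraMap (K i) k) := by
    intro s
    induction s using Finset.induction_on with
    | empty => exact ⟨(hcov 0).choose, by simp⟩
    | insert x s hx ih =>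
      obtain ⟨i, hi⟩ := ih
      obtain ⟨j, hj⟩ := hcov x
      obtain ⟨l, hl₁, hl₂⟩ := hdir i j
      refine ⟨l, fun y hy => ?_⟩
      rcases Finset.mem_insert.mp hy with rfl | hy
      · exact hl₂ hj
      · exact hl₁ (hi y hy)
  let d := Module.finrank k L
  let b := Module.finBasis k L
  let coef : Finset k := Finset.univ.image (fun p : Fin d × Fin d × Fin d =>
    b.repr (b p.1 * b p.2.1) p.2.2) ∪ Finset.univ.image (fun e => b.repr 1 e)
  obtain ⟨i, hi⟩ := hall coef
  let V : Submodule (K i) L := Submodule.span (K i) (Set.range b)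
  have hmemV : ∀ x : L, (∀ e, b.repr x e ∈ Set.range (algebraMap (K i) k)) → x ∈ V := by
    intro x hx
    rw [← b.sum_repr x]
    refine sum_mem fun e _ => ?_
    obtain ⟨c, hc⟩ := hx e
    rw [← hc, algebraMap_smul]
    exact V.smul_mem c (Submodule.subset_span ⟨e, rfl⟩)
  have h1 : (1 : L) ∈ V := hmemV 1 fun e => hi _ (Finset.mem_union_right _
    (Finset.mem_image.mpr ⟨e, Finset.mem_univ _, rfl⟩))
  have hmul : ∀ x y : L, x ∈ V → y ∈ V → x * y ∈ V := by
    intro x y hx hy
    have : x * y ∈ V * V := Submodule.mul_mem_mul hx hy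
    refine (?_ : V * V ≤ V) this
    rw [Submodule.span_mul_span, Submodule.span_le]
    rintro _ ⟨_, ⟨a, rfl⟩, _, ⟨c, rfl⟩, rfl⟩
    exact hmemV _ fun e => hi _ (Finset.mem_union_left _
      (Finset.mem_image.mpr ⟨(a, c, e), Finset.mem_univ _, rfl⟩))
  let S : Subalgebra (K i) L := V.toSubalgebra h1 hmul
  have hS : Module.Finite (K i) S :=
    Module.Finite.iff_fg.mpr (Submodule.fg_span (Set.finite_range b) : V.FG)
  have : Algebra.IsIntegral (K i) S := Algebra.IsIntegral.of_finite _ _
  letI fS : Field S := (isField_of_isIntegral_of_isField' (R := K i) (S := S)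
    (Field.toIsField _)).toField
  refine ⟨i, S, fS, inferInstance, hS, inferInstance, inferInstance, ?_⟩
  let bS : Module.Basis (Fin d) (K i) S :=
    Module.Basis.span (b.linearIndependent.restrict_scalars' (K i))
  have hbS : ∀ a, (bS a : L) = b a := fun a =>
    congrArg Subtype.val (Module.Basis.span_apply (b.linearIndependent.restrict_scalars' (K i)) a)
  let ψ : k ⊗[K i] S →ₐ[k] L :=
    Algebra.TensorProduct.lift (Algebra.ofId k L) S.val fun _ _ => Commute.all _ _
  have hψ : ψ.toLinearMap =
      ((Algebra.TensorProduct.basis k bS).equiv b (Equiv.refl _)).toLinearMap := by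
    refine (Algebra.TensorProduct.basis k bS).ext fun a => ?_
    rw [LinearEquiv.coe_coe, Module.Basis.equiv_apply, Equiv.refl_apply]
    simp [ψ, hbS]
  refine ⟨AlgEquiv.ofBijective ψ ?_⟩
  have : (ψ : k ⊗[K i] S → L) = (Algebra.TensorProduct.basis k bS).equiv b (Equiv.refl _) :=
    congrArg (fun φ : k ⊗[K i] S →ₗ[k] L => (φ : k ⊗[K i] S → L)) hψ
  rw [this]
  exact LinearEquiv.bijective _

end Groth.Agent.GeomReg
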